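import Cfsg.Agent.R24.Base1
import Cfsg.Agent.R24.Base2
import Cfsg.Agent.R24.Oct

set_option autoImplicit false

namespace Cfsg.Agent.R24

open Subgroup Cfsg.Agent.H14
open scoped Pointwise

/-- boolean form of `Ker` -/
def InvKb (co : Bool) (m : ℕ) : Bool :=
  cond co (Nat.beq (enc m) m) (Nat.beq m 0 || Nat.beq m 16777215)

theorem InvKb_iff {co : Bool} {m : ℕ} : InvKb co m = true ↔ Ker co m := by
  cases co <;> simp [InvKb, Ker]

/-- the commutator mask -/
noncomputable def InvCm (P m : ℕ) : ℕ := Nat.xor m (im P m)

/-- the number of fixed vectors -/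
noncomputable def InvCnt (co : Bool) (P : ℕ) : ℕ :=
  cnt2 32 64 fun x => force (rp co x) fun m => force (InvCm P m) (InvKb co)

theorem Inv_cnt1 (co : Bool) : force (te 1) (InvCnt co) = 128 := by
  cases co <;> decide +kernel

theorem Inv_cnt6 (co : Bool) : force (te 6) (InvCnt co) = 64 := by
  cases co <;> decide +kernel

/-- a basis of the fixed space of `te 1` -/
def InvB (co : Bool) : List ℕ :=
  cond co [3, 5, 9, 33, 2304, 16385, 131073] [10558, 52005, 416040, 657763, 1182989, 2115979, 4409606]

/-- the commutator space of `te 1` -/
def InvD (co : Bool) : List ℕ :=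
  cond co [0, 2304, 8208, 10512, 33280, 41488, 266240, 274448, 524352, 532560, 1049600, 1057808, 2097280,
      2105488, 4259840, 4268048]
    [0, 832080, 1351424, 1584464, 2141072, 2890176, 3421328, 3704512, 4536592, 4819776, 5350928, 6100032,
      6656640, 6889680, 7409024, 8241104]

theorem Inv_B (co : Bool) : ∀ c ∈ InvB co, Dom co c ∧ Ker co (c ^^^ im (te 1) c) := by
  cases co <;> decide +kernel

theorem Inv_D (co : Bool) : ∀ d ∈ InvD co, Dom co d := by
  cases co <;> decide +kernel

theorem Inv_D2' (co : Bool) : (force (te 1) fun P => all2 32 64 fun y => force (rp co y) fun m =>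
    force (InvCm P m) fun c => anyL (InvD co) fun d => force (Nat.xor c d) (InvKb co)) = true := by
  cases co <;> decide +kernel

theorem Inv_D2 (co : Bool) {y : ℕ} (hy : y < 2048) :
    ∃ d ∈ InvD co, Ker co ((rp co y ^^^ im (te 1) (rp co y)) ^^^ d) := by
  have h := Inv_D2' co
  simp only [force_eq, all2_iff, anyL_iff, InvKb_iff] at h
  exact h y hy

theorem Inv_g0' (co : Bool) : (all2 16 64 fun x => bimp (Nat.beq (mulx x x) 0) (force (te x) fun P =>
    bimp (allL (InvB co) fun c => force (InvCm P c) fun c' => anyL (InvD co) fun d =>
      force (Nat.xor c' (InvCm P d)) (InvKb co))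
      (cond co (Nat.beq (Nat.land x 323) x) (Nat.beq x 0 || Nat.beq x 1)))) = true := by
  cases co <;> decide +kernel

theorem Inv_g0 (co : Bool) {x : ℕ} (hx : x < 1024) (h2 : mulx x x = 0)
    (h : ∀ c ∈ InvB co, ∃ d ∈ InvD co, Ker co ((c ^^^ im (te x) c) ^^^ (d ^^^ im (te x) d))) :
    if co then x &&& 323 = x else x = 0 ∨ x = 1 := by
  have k := Inv_g0' co
  simp only [force_eq, all2_iff, anyL_iff, allL_iff, InvKb_iff, bimp_iff, beq_iff] at k
  have k2 := k x hx h2 h
  cases co
  · simpa using k2
  · simpa using k2

theorem Inv_g1' (co : Bool) : (all2 16 64 fun x => bimp (Nat.beq (mulx x x) 0) (force (te x) fun P =>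
    bimp (allL (InvB co) fun c => force (InvCm P c) (InvKb co)) (Nat.beq x 0 || Nat.beq x 1))) = true := by
  cases co <;> decide +kernel

theorem Inv_g1 (co : Bool) {x : ℕ} (hx : x < 1024) (h2 : mulx x x = 0)
    (h : ∀ c ∈ InvB co, Ker co (c ^^^ im (te x) c)) : x = 0 ∨ x = 1 := by
  have k := Inv_g1' co
  simp only [force_eq, all2_iff, allL_iff, InvKb_iff, bimp_iff, beq_iff] at k
  simpa using k x hx h2 h

def InvT : ℕ := nat_lit 0x80000180000180000180000100000600000600000600000602400002400002400002400000002800002800002800002800000600000600000600000680000180000180000180000102400002400002400002400000002800002800002800002800000000000000000000000000000000000000000000000082400182400182400182400100002e00002e00002e00002e00000000000000000000000000000000000000000000000002400602400602400602400680002980002980002980002980000180000180000180000100000600000600000600000602400002400002400002400000002800002800002800002800000600000600000600000680000180000180000180000102400002400002400002400000002800002800002800002800000000000000000000000000000000000000000000000082400182400182400182400100002e00002e00002e00002e00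0000000000000000000000000000000000000000000000024006024006024006024006800029800029800029800029000000000000000000000000000000000000000000000000000000000000000000000000000000000000000000000000000000000000000000000000000000000000000000000000000000000000000000000000000000000000000000000000000000000000000000000000000000000000000000000000000000000000000000000000000000000000000000000000000000000000000000000000000000000000000000000000000000000000000000000000000000000000000000000000000000000000000000000000000000000000000000000000000000000000000000000000000000000000000000000000000000000000000000000000000000000000000000000000000000000000000000000000000000000000000000000000000000000000000000000000000000000000000000000000000000000000000000000000000000000000000000000000000000000000000000000000000000000000000000000000000000000000000000000000000000000000000000000000841001800901c10001802011041006000906410006002016065000024900434000026010041028000928410028002038000906041006410006002016800901841001c1000180201102490006500043400002601000092804102841002800203800000000000045100000291000000000000045100000291082400182400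1c7500182691100002e00002e45102e00293e000000000000410900043010000000000000410900043010024006024006434906067016800029800029c10929843039808201900401a000818800411004060082060800462000862240800a404002c2001244000800682000a8100428008228080046200086008206100406a0008188004190040180820102c2001244000a40402240801004280082282000a80800680000000000001804402082800000000000002082801804409a4441a2c2818240018240012082ae18046e00002e00002e3004800882400000000000000882403004800000000000000240060240063244860ac246800029800029888269b004a9000000000000000000000000000000000000000000000000000000000000000000000000000000000000000000000000000000000000000000000000000000000000000000000000000000000000000000000000000000000000000000000000000000000000000000000000000000000000000000000000000000000000000000000000000000000000000000000000000000000000000000000000000000000000000000000000000000000000000000000000000000000000000000000000049200100d00610080082050141400008b004900402020902410800809404182001024100c104020098051040000a2100809402410804182001024102009800c104051040000a210008b00141400490040202090100d000492006100800820500000000000005d144020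ab90000000000000659280182d50180440208280451000002910208280180440451000002910300480088240410900043010088240300480410900043010000000000000710d800cb250000000000000498b4034349000000000000000000000000000000000000000000000000000000000000000000000000000000000000000000000000000000000000000000000000000000000000000000000000000000000000000000000000000000000000000000000000000000000000000000000000000000000000000000000000000000000000000000000000000000000000000000000000000000000000000000000000000000000000000000000000000000000000000000000000000000000000000000000000000000000000000000000000000000000000000000000000000000000000000000000000000000000000000000000000000000000000000000000000000000000000000000000000000000000000000000000000000000000000000000000000000000000000000000000000000000000000000000000000000000000000000000000000000000000000000000000000000000000000000000000000000000000000000000000000000000000000000000000000000000000000000000000000080000780000780000780000700000000000000000000000000000000000000000000000002402802402802402802402800000000000000000000000080000780000780000780000700000000000000000000000002402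802402802402802402800000000000000000000000000000000000000000000000080000780000780000780000702402802402802402802402800000000000000000000000000000000000000000000000000000000000000000000000082402f82402f82402f82402f80000780000780000780000700000000000000000000000000000000000000000000000002402802402802402802402800000000000000000000000080000780000780000780000700000000000000000000000002402802402802402802402800000000000000000000000000000000000000000000000080000780000780000780000702402802402802402802402800000000000000000000000000000000000000000000000000000000000000000000000082402f82402f82402f82402f0419000000000000004120100419000000000000004120100419000000000000004120100419000000000000004120100000000419000000004120100000000419000000004120100000000419000000004120100000000419000000004120100000000000000419004120100000000000000419004120100000000000000419004120100000000000000419004120100000000000000000004539100000000000000000004539100000000000000000004539100000000000000000004539100000001086002800c00000001086000000000000002800c02800c00000000000001086000000002800c01086000000000000002800c00000001086002800c000000010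86000000000000001086000000002800c01086000000002800c00000000000000000001086002800c00000000000002800c01086001086002800c00000000000002800c01086000000000000003886c00000000000000000000000003886c00000000000000000000000003886c00000000000000000000000003886c080000780000780000780000700000000000000000000000000000000000000000000000002402802402802402802402800000000000000000000000080000780000780000780000700000000000000000000000002402802402802402802402800000000000000000000000000000000000000000000000080000780000780000780000702402802402802402802402800000000000000000000000000000000000000000000000000000000000000000000000082402f82402f82402f82402f841907908607a800c7c12017149f000000000000006920d02c19c000000000000051a6100659282a40e812c6284360380000002c19c000000051a610a800c7841907908607c12017000000149f000000006920d012c6280659282a40e8436038000000000000149f006920d00000000000002c19c051a610908607a800c7841907c120172a40e812c6280659284360383886c00000000000004539100000003886c00000004539100000000000003886c045391082402f82402f82402fffffff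
/-- the fixed points of `te y` -/
def InvFx (y : ℕ) : ℕ := Nat.mod (Nat.shiftRight InvT (Nat.mul (nat_lit 24) y)) (nat_lit 16777216)

theorem Inv_fx' : (all2 16 64 fun y => force (te y) fun P => force (InvFx y) fun F => allN 24 fun i =>
    Bool.rec (!(tb F i)) (tb F i) (Nat.beq (app (nat_lit 5) (nat_lit 32) P i) i)) = true := by
  decide +kernel

theorem Inv_fx {y : ℕ} (hy : y < 1024) {g : Equiv.Perm GolayPt} (hg : GE.pk g = te y) (a : GolayPt) :
    a ∈ bits (InvFx y) ↔ g a = a := by
  have k := Inv_fx'
  simp only [force_eq, all2_iff, allN_iff] at k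
  have k2 := k y hy (idx a) (idx_lt a)
  have e : app (nat_lit 5) (nat_lit 32) (te y) (idx a) = idx (g a) := by rw [← hg]; exact GE.app_pk g a
  rw [e, tb_eq] at k2
  rw [mem_bits, ← idx_inj, ← beq_iff]
  revert k2
  cases Nat.beq (idx (g a)) (idx a) <;> cases (InvFx y).testBit (idx a) <;> simp

theorem Inv_ct' : (all2 16 64 fun x => force (InvFx x) fun F => bimp (Nat.beq (pc F) 8)
    (Nat.beq F 8536111 || Nat.ble (cnt2 16 64 fun y => Nat.beq (Nat.land F (InvFx y)) F) 15)) = true := by
  decide +kernel

theorem Inv_ct {x : ℕ} (hx : x < 1024) (h8 : pc (InvFx x) = 8) (hO : InvFx x ≠ 8536111) :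
    ((Finset.range 1024).filter fun y => InvFx x &&& InvFx y = InvFx x).card ≤ 15 := by
  have k := Inv_ct'
  simp only [force_eq, all2_iff, bimp_iff, beq_iff, Bool.or_eq_true, ble_iff, cnt2_eq] at k
  exact (k x hx h8).resolve_left hO

theorem Inv_fx1 : InvFx 1 = 8536111 := by decide +kernel

variable {G : Type*} [Group G] [Finite G] (S : St G)

theorem St.Inv_card_cv {a : G} (ha : a ∈ S.N) : Nat.card (Cv S.V a) = InvCnt S.co (GE.pk (S.p a)) := by
  refine S.card_filter inf_le_left _ fun x hx => ?_
  rw [force_eq, force_eq, InvKb_iff, mem_inf, mem_centralizer_singleton_iff, eq_comm,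
    S.cent_κ ha (rp_dom _ x hx)]
  exact ⟨fun h => ⟨S.κ_mem _, h⟩, fun h => h.2⟩

omit [Finite G] in
theorem St.Inv_cv_conj {n : G} (a : G) (hn : n ∈ S.N) : Cv S.V (n * a * n⁻¹) = H70.cj n (Cv S.V a) := by
  ext x
  rw [H70.mem_cj, mem_inf, mem_inf, mem_centralizer_singleton_iff, mem_centralizer_singleton_iff]
  refine and_congr ⟨fun h => H70.conj_mem_of_mem_norm' hn h, fun h => ?_⟩ ⟨fun h => ?_, fun h => ?_⟩
  · have := H70.conj_mem_of_mem_norm hn h
    simpa [mul_assoc] using this
  · calc n⁻¹ * x * n * a = n⁻¹ * (x * (n * a * n⁻¹)) * n := by group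
      _ = a * (n⁻¹ * x * n) := by rw [h]; group
  · calc x * (n * a * n⁻¹) = n * (n⁻¹ * x * n * a) * n⁻¹ := by group
      _ = n * a * n⁻¹ * x := by rw [h]; group

theorem St.Inv_card_conj {a : G} (ha : a ∈ S.N) {h : Equiv.Perm GolayPt} (hh : h ∈ M24) :
    Nat.card (Cv S.V a) = InvCnt S.co (GE.pk (h * S.p a * h⁻¹)) := by
  obtain ⟨n, hn, rfl⟩ := S.p_surj h hh
  rw [← S.p_conj hn ha, ← S.Inv_card_cv (mul_mem (mul_mem hn ha) (inv_mem hn)), S.Inv_cv_conj a hn,
    H70.card_cj]

/-- notes/R24.md, section Inv -/
theorem St.card_A {a : G} (ha : a ∈ S.N) (h : IsA (S.p a)) : Nat.card (Cv S.V a) = 128 := by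
  obtain ⟨h, hh, e⟩ := h
  rw [S.Inv_card_conj ha hh, e, ← Inv_cnt1 S.co, force_eq]

/-- notes/R24.md, section Inv -/
theorem St.inv_card {a : G} (ha : a ∈ S.N) (hv : a ∉ S.V) (h2 : a * a ∈ S.V) :
    (IsA (S.p a) ∧ Nat.card (Cv S.V a) = 128 ∧ Nat.card (Dv S.V a) = 16) ∨
      (Nat.card (Cv S.V a) = 64 ∧ Nat.card (Dv S.V a) = 32) := by
  have hc := S.card_cd ha
  rcases inv_class (S.p_mem a ha) (by rw [← S.p_mul _ ha _ ha, S.p_V h2])
    (fun h => hv ((S.p_one a ha).1 h)) with h | ⟨h, hh, e⟩
  · have k := S.card_A ha h
    rw [k] at hc
    exact Or.inl ⟨h, k, by omega⟩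
  · have k : Nat.card (Cv S.V a) = 64 := by
      rw [S.Inv_card_conj ha hh, e, ← Inv_cnt6 S.co, force_eq]
    rw [k] at hc
    exact Or.inr ⟨k, by omega⟩

omit [Finite G] in
theorem St.Inv_idx {b : G} (hb : b ∈ S.T) (h2 : b * b ∈ S.V) :
    ∃ x < 1024, GE.pk (S.p b) = te x ∧ mulx x x = 0 := by
  obtain ⟨x, hx, -, e⟩ := (mem_sg (k := 1023) (by simp) _).1 hb.2
  refine ⟨x, hx, e, te_inj _ (mulx_lt x hx x hx) 0 (by norm_num) ?_⟩
  rw [← te_mul x hx x hx, ← e, te_zero, ← S.p_V h2, S.p_mul _ hb.1 _ hb.1, GE.pk_mul]

theorem St.Inv_B_mem {a : G} (ha : a ∈ S.N) (he : GE.pk (S.p a) = te 1) {c : ℕ} (hc : c ∈ InvB S.co) :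
    S.κ c ∈ Cv S.V a := by
  obtain ⟨h1, h2⟩ := Inv_B S.co c hc
  refine ⟨S.κ_mem c, mem_centralizer_singleton_iff.2 ((S.cent_κ ha h1).2 ?_).symm⟩
  rwa [he]

omit [Finite G] in
theorem St.Inv_fin {a b : G} (he : GE.pk (S.p a) = te 1) (hb : b ∈ S.N) {x : ℕ} (e : GE.pk (S.p b) = te x)
    (h : x = 0 ∨ x = 1) : b ∈ S.V ∨ S.p b = S.p a := by
  rcases h with rfl | rfl
  · exact Or.inl ((S.p_one b hb).1 (GE.pk_inj.1 (e.trans te_zero)))
  · exact Or.inr (GE.pk_inj.1 (e.trans he.symm))

/-- notes/R24.md, section Inv -/
theorem St.g0 {a b : G} (ha : a ∈ S.N) (he : GE.pk (S.p a) = te 1) (hb : b ∈ S.T) (h2 : b * b ∈ S.V)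
    (h : Cv S.V a ≤ (Cv S.V a ⊓ centralizer ({b} : Set G)) ⊔ Dv S.V a) :
    if S.co then S.p b ∈ Ex else b ∈ S.V ∨ S.p b = S.p a := by
  obtain ⟨x, hx, e, hm⟩ := S.Inv_idx hb h2
  have hDV : Dv S.V a ≤ S.V := by
    intro d hd
    obtain ⟨v, hv, rfl⟩ := (S.mem_Dv ha).1 hd
    have := mul_mem hv (H70.conj_mem_of_mem_norm ha (inv_mem hv))
    simpa [mul_assoc] using this
  have hn : Cv S.V a ⊓ centralizer ({b} : Set G) ≤ normalizer (Dv S.V a : Set G) :=
    H70.norm_of_cent fun u hu d hd => S.comm (hDV hd) hu.1.1
  have key := Inv_g0 S.co hx hm fun c hc => by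
    obtain ⟨u, hu, d, hd, hud⟩ := (H70.mem_sup_of_norm hn).1 (h (S.Inv_B_mem ha he hc))
    obtain ⟨v, hv, rfl⟩ := (S.mem_Dv ha).1 hd
    obtain ⟨y, hy, rfl⟩ := S.rp_surj hv
    have hyd := rp_dom S.co y hy
    obtain ⟨d, hd, hk⟩ := Inv_D2 S.co hy
    have hdd := Inv_D S.co d hd
    have hcd := (Inv_B S.co c hc).1
    rw [S.comm_κ ha hyd, (S.κ_eq_iff (hyd.xor (im_dom (S.p_mem a ha) hyd)) hdd).2 (by rwa [he])] at hud
    refine ⟨d, hd, ?_⟩
    rw [← e, ← S.κ_eq_iff (hcd.xor (im_dom (S.p_mem b hb.1) hcd)) (hdd.xor (im_dom (S.p_mem b hb.1) hdd)),
      ← S.comm_κ hb.1 hcd, ← hud]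
    have hub : Commute b u := (mem_centralizer_singleton_iff.1 hu.2).symm
    calc u * S.κ d * b * (u * S.κ d)⁻¹ * b⁻¹ = u * (S.κ d * b * (S.κ d)⁻¹ * b⁻¹) * (b * u⁻¹ * b⁻¹) := by group
      _ = _ := by
        rw [S.comm_κ hb.1 hdd, hub.inv_right.eq, mul_inv_cancel_right, S.comm hu.1.1 (S.κ_mem _),
          mul_inv_cancel_right]
  by_cases hco : S.co = true
  · rw [if_pos hco] at key ⊢
    exact (mem_sg (k := 323) (by simp) _).2 ⟨x, hx, key, e⟩
  · rw [if_neg hco] at key ⊢
    exact S.Inv_fin he hb.1 e key

/-- notes/R24.md, section Inv -/
theorem St.g1 {a b : G} (ha : a ∈ S.N) (he : GE.pk (S.p a) = te 1) (hb : b ∈ S.T) (h2 : b * b ∈ S.V)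
    (h : Cv S.V a ≤ centralizer ({b} : Set G)) : b ∈ S.V ∨ S.p b = S.p a := by
  obtain ⟨x, hx, e, hm⟩ := S.Inv_idx hb h2
  refine S.Inv_fin he hb.1 e (Inv_g1 S.co hx hm fun c hc => ?_)
  rw [← e]
  exact (S.cent_κ hb.1 (Inv_B S.co c hc).1).1
    (mem_centralizer_singleton_iff.1 (h (S.Inv_B_mem ha he hc))).symm

/-- notes/R24.md, section Inv -/
theorem euniq {g : Equiv.Perm GolayPt} (hg : g ∈ M24) (h : H70.cj g Ex ≤ Tx) : H70.cj g Ex = Ex := by
  obtain ⟨e, -, he⟩ := exists_te (x := 1) (by norm_num)
  have heE : e ∈ Ex := (mem_sg (k := 323) (by simp) _).2 ⟨1, by norm_num, by decide, he⟩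
  obtain ⟨x, hx, -, hxe⟩ := (mem_sg (k := 1023) (by simp) _).1 (h (H70.conj_mem_cj g heE))
  have hb : bits (InvFx x) = g • bits 8536111 := by
    ext a
    rw [Inv_fx hx hxe, ← Finset.inv_smul_mem_iff, ← Inv_fx1, Inv_fx (by norm_num) he]
    simp only [Equiv.Perm.coe_mul, Function.comp_apply, Equiv.Perm.smul_def]
    exact ⟨fun k => g.injective (by rw [k]; simp), fun k => by rw [k]; simp⟩
  have hlt : InvFx x < 2 ^ 24 := Nat.mod_lt _ (by norm_num)
  by_cases hO : InvFx x = 8536111
  · refine H70.cj_eq_self (oc_norm hg (bits_inj (GE.img_pk_lt g _) (by norm_num) ?_))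
    rw [← smul_bits, ← hb, hO]
  · exfalso
    have h8 : pc (InvFx x) = 8 := by
      rw [← card_bits, hb, Finset.card_smul_finset, card_bits]; decide +kernel
    have hc := Inv_ct hx h8 hO
    have hs : (H70.cj g Ex : Set (Equiv.Perm GolayPt)) ⊆ (fun y => GE.perm (te y)) ''
        ↑((Finset.range 1024).filter fun y => InvFx x &&& InvFx y = InvFx x) := by
      intro k hk
      obtain ⟨y, hy, -, hye⟩ := (mem_sg (k := 1023) (by simp) _).1 (h hk)
      refine ⟨y, ?_, by simp only [← hye, GE.perm_pk]⟩
      rw [Finset.coe_filter]
      refine ⟨Finset.mem_range.2 hy, and_eq_of_bits_subset hlt fun a ha => ?_⟩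
      rw [hb, ← Finset.inv_smul_mem_iff] at ha
      have hk' : g⁻¹ * k * g ∈ Ex := H70.mem_cj.1 hk
      have := (oc_E (sg_le _ hk')).1 hk' _ ha
      rw [Inv_fx hy hye]
      simpa using this
    have h1 := (Set.ncard_le_ncard hs (Set.toFinite _)).trans (Set.ncard_image_le (Set.toFinite _))
    rw [Set.ncard_coe_finset, ← Nat.card_coe_set_eq] at h1
    have h2 : Nat.card (H70.cj g Ex) = 16 := by
      rw [H70.card_cj, card_sg (k := 323) (by simp)]; decide +kernel
    have h3 : Nat.card (H70.cj g Ex) ≤ 15 := h1.trans hc
    omega

end Cfsg.Agent.R24
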