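import Cfsg.Agent.R24.Defs2
import Cfsg.Agent.S2649

set_option autoImplicit false

namespace Cfsg.Agent.R24

open Subgroup Cfsg.Agent.H14

variable {G : Type*} [Group G] [Finite G] (S : St G)

namespace QCA

open scoped Pointwise

/-- the member of the pair `m`, complement of `m` that avoids the extra point -/
def w (m : ℕ) : GolayPt → ZMod 2 := fun p => word m p + word m none

theorem w_xor (a b : ℕ) : w (a ^^^ b) = w a + w b := by
  ext p
  simp only [w, word_xor, Pi.add_apply]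
  ring

theorem w_zero {a : ℕ} (ha : a < 2 ^ 24) : w a = 0 ↔ Ker false a := by
  have k : ∀ x y : ZMod 2, x + y = 0 ↔ x = y := by decide
  simp only [Ker, Bool.false_eq_true, if_false]
  refine ⟨fun h => ?_, ?_⟩
  · have h1 : ∀ p, word a p = word a none := fun p => (k _ _).1 (congrFun h p)
    rcases (by decide : ∀ x : ZMod 2, x = 0 ∨ x = 1) (word a none) with e | e
    · exact .inl (word_inj ha (by norm_num) (by rw [word_zero]; exact funext fun p => (h1 p).trans e))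
    · exact .inr (word_inj ha (by norm_num) (by rw [word_full]; exact funext fun p => (h1 p).trans e))
  · rintro (rfl | rfl) <;> ext p <;> simp only [w, word_zero, word_full] <;> rfl

theorem word_im (g : Equiv.Perm GolayPt) (a : ℕ) (p : GolayPt) : word (im (GE.pk g) a) p = word a (g⁻¹ p) := by
  simp only [word, ← mem_bits, ← smul_bits, mem_perm_smul_finset]

variable {S}

omit [Finite G] in
theorem κ_eq (hco : S.co = false) {a b : ℕ} (ha : Dom S.co a) (hb : Dom S.co b) : S.κ a = S.κ b ↔ w a = w b := by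
  rw [S.κ_eq_iff ha hb, hco, ← w_zero (Nat.xor_lt_two_pow ha.1 hb.1), w_xor, add_eq_zero_iff_eq_neg]
  exact Eq.congr_right (funext fun p => ZMod.neg_eq_self_mod_two _)

omit [Finite G] in
theorem ex_psi (hco : S.co = false) : ∃ ψ : G → GolayPt → ZMod 2, ∀ a, Dom S.co a → ψ (S.κ a) = w a := by
  classical
  refine ⟨fun v => if h : v ∈ S.V then w (S.κ_surj v h).choose else 0, fun a ha => ?_⟩
  dsimp only
  rw [dif_pos (S.κ_mem a)]
  have := (S.κ_surj _ (S.κ_mem a)).choose_spec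
  exact (κ_eq hco this.1 ha).1 this.2

end QCA

open QCA in
/-- notes/R24.md, section QCodeA -/
theorem St.qk (hco : S.co = false) : ∃ K, S.KC K := by
  obtain ⟨ψ0, h0⟩ := ex_psi hco
  have dom : ∀ {a}, Dom S.co a ↔ a < 2 ^ 24 ∧ enc a = a := by simp [hco, Dom]
  let N : Subgroup (S.pre Spor.M23) := S.V.subgroupOf _
  have hN : N.Normal := normal_subgroupOf_of_le_normalizer (S.pre_le _)
  let f : S.pre Spor.M23 →* Spor.M23 := MonoidHom.mk' (fun n => ⟨S.p n, n.2.2⟩) fun a b =>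
    Subtype.ext (S.p_mul _ a.2.1 _ b.2.1)
  have fs : Function.Surjective f := fun g => by
    obtain ⟨a, ha, e⟩ := S.p_surj g g.2.1
    exact ⟨⟨a, ha, e ▸ g.2⟩, Subtype.ext e⟩
  have fk : N = f.ker := by
    ext n
    rw [MonoidHom.mem_ker, Subtype.ext_iff]
    exact (S.p_one n n.2.1).symm
  have hm : ∀ n : N, ∃ a, Dom S.co a ∧ S.κ a = n.1.1 := fun n => S.κ_surj _ n.2
  let ψ : Additive N →+ (GolayPt → ZMod 2) := AddMonoidHom.mk' (fun n => ψ0 (Additive.toMul n).1.1) fun x y => by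
    obtain ⟨a, ha, e⟩ := hm (Additive.toMul x)
    obtain ⟨b, hb, e'⟩ := hm (Additive.toMul y)
    change ψ0 ((Additive.toMul x).1.1 * (Additive.toMul y).1.1) = _
    rw [← e, ← e', ← S.κ_xor a b ha hb, h0 _ (ha.xor hb), h0 _ ha, h0 _ hb, w_xor]
  obtain ⟨H, h1, h2⟩ := S2649.result N (QuotientGroup.liftEquiv N fs fk) ψ (fun x y e => by
      obtain ⟨a, ha, e1⟩ := hm (Additive.toMul x)
      obtain ⟨b, hb, e2⟩ := hm (Additive.toMul y)
      change ψ0 (Additive.toMul x).1.1 = ψ0 (Additive.toMul y).1.1 at e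
      rw [← e1, ← e2, h0 _ ha, h0 _ hb, ← κ_eq hco ha hb, e1, e2] at e
      exact Additive.toMul.injective (Subtype.ext (Subtype.ext e)))
    (fun u => ⟨by
      rintro ⟨x, rfl⟩
      obtain ⟨a, ha, e⟩ := hm (Additive.toMul x)
      change ψ0 (Additive.toMul x).1.1 ∈ _ ∧ ψ0 (Additive.toMul x).1.1 none = 0
      rw [← e, h0 _ ha]
      refine ⟨?_, CharTwo.add_self_eq_zero _⟩
      rw [show w a = word a + word a none • word 16777215 by ext p; simp [w, word_full]]
      exact add_mem ((dom.1 ha).2 ▸ word_enc_mem a)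
        (Submodule.smul_mem _ _ (word_mem_iff_bits.2 (bits_full ▸ univ_mem_cSets))), fun ⟨h1, h2⟩ => by
      obtain ⟨x, hx, rfl⟩ := mem_golayCode_iff.1 h1
      refine ⟨Additive.ofMul ⟨⟨S.κ (enc x), S.V_le_pre _ (S.κ_mem _)⟩, S.κ_mem _⟩, ?_⟩
      change ψ0 (S.κ (enc x)) = _
      rw [h0 _ (dom.2 ⟨enc_lt hx, enc_enc hx⟩)]
      ext p
      rw [w, h2, add_zero]⟩)
    (fun g n => by
      obtain ⟨a, ha, e⟩ := hm n
      change ψ0 (g.1 * n.1.1 * g.1⁻¹) = ψ0 n.1.1 ∘ ⇑(S.p g)⁻¹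
      have hd : Dom S.co (im (GE.pk (S.p g)) a) := by
        refine dom.2 ⟨GE.img_pk_lt _ _, (bits_mem_iff_enc (GE.img_pk_lt _ _)).1 ?_⟩
        rw [← smul_bits]
        exact smul_mem_cSets g.2.2.1 (bits_mem_of_enc (dom.1 ha).2)
      rw [← e, S.κ_conj _ g.2.1 _ ha, h0 _ hd, h0 _ ha]
      ext p
      have : (S.p g)⁻¹ none = none := (inv_mem g.2.2).2
      simp only [w, word_im, Function.comp, this])
  refine ⟨H.map (Subgroup.subtype _), ?_, ?_, ?_, fun g hg e => ?_⟩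
  · rintro _ ⟨x, -, rfl⟩
    exact x.2.1
  · refine eq_bot_iff.2 ?_
    rintro _ ⟨⟨x, hx, rfl⟩, hv⟩
    rw [mem_bot.1 (h1.le ⟨hx, hv⟩), map_one]
    exact one_mem _
  · rintro _ ⟨x, -, rfl⟩
    exact x.2.2.2
  · obtain ⟨n, e'⟩ := fs ⟨g, hg, e⟩
    obtain ⟨y, hy, v, hv, rfl⟩ := mem_sup_of_normal_right.1 (h2 ▸ mem_top n : n ∈ H ⊔ N)
    rw [map_mul, show f v = 1 from fk.le hv, mul_one] at e'
    exact ⟨y, ⟨y, hy, rfl⟩, congrArg Subtype.val e'⟩

end Cfsg.Agent.R24
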