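import Cfsg.Agent.R24.Defs2
import Cfsg.Agent.R24.Base1
import Cfsg.Agent.R24.Base2
import Cfsg.Agent.R24.Base3
import Cfsg.Agent.R24.Oct
import Cfsg.Agent.R24.MN
import Cfsg.Agent.R24.QCodeA
import Cfsg.Agent.R24.QCodeB

set_option autoImplicit false

namespace Cfsg.Agent.R24

open Subgroup Cfsg.Agent.H14

variable {G : Type*} [Group G] [Finite G] (S : St G)

namespace QCode

/-- members of `M23` fixing the octad, one for each involution of `Ex` -/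
def tab : List ℕ := [0xbdab49ca307b9ac5a928398a418820, 0xb928d5b030338e855aaf4c813888a3,
  0xb9a0aad047596cf925886ce2408c0e, 0xba9a45a627409e6a3215958b303823, 0xbdaaf9504880e676196d51229281c1,
  0xbd6c63a9c9209936d10b93c3000e25, 0xbd5843a1cf5060da2cd3b247289402, 0xbb20ba206a396cf6a4959c8068b822,
  0xbaccc9262f984883d2cd82815115c3, 0xbca16a3449500866550f3ac332c46e, 0xbd2c64c228586759114f3b06d71440,
  0xbd8f355429788d26a2146100b1b8b1, 0xbc0cc6ce2978a4ba56c4428a770c20, 0xba6c49304d40d7353cf0a1a3571401,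
  0xb98f42540c915487c26d5a4768882e]

theorem tab_ok : (allL tab fun P => valid (nat_lit 5) (nat_lit 32) (nat_lit 24) P && inM24 P &&
    Nat.beq (app (nat_lit 5) (nat_lit 32) P 23) 23 && Nat.beq (im P 8536111) 8536111) = true := by
  decide +kernel

theorem tab_cj : (allN 1024 fun x => bimp (Nat.beq (Nat.land x 323) x) (Nat.beq x 0 ||
    anyL tab fun P => Nat.beq (cmp P (te 1)) (cmp (te x) P))) = true := by
  decide +kernel

theorem conj_E {e g : Equiv.Perm GolayPt} (he : GE.pk e = te 1) (hg : g ∈ Ex) (h1 : g ≠ 1) :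
    ∃ c ∈ M24, c none = none ∧ im (GE.pk c) 8536111 = 8536111 ∧ c * e * c⁻¹ = g := by
  obtain ⟨x, hx, h2, h3⟩ := (mem_sg (by simp) g).1 hg
  have := bimp_iff.1 (allN_iff.1 tab_cj x hx) (beq_iff.2 h2)
  rw [Bool.or_eq_true, beq_iff, anyL_iff] at this
  rcases this with rfl | ⟨P, hP, h⟩
  · exact absurd (GE.pk_inj.1 (h3.trans te_zero)) h1
  have k := allL_iff.1 tab_ok P hP
  simp only [Bool.and_eq_true, beq_iff] at k
  obtain ⟨c, hc, rfl⟩ := inG_M24 k.1.1.1 k.1.1.2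
  refine ⟨c, hc, GE.ix_inj.1 ((GE.app_pk c none).symm.trans k.1.2), k.2, mul_inv_eq_iff_eq_mul.2 (GE.pk_inj.1 ?_)⟩
  rw [GE.pk_mul, GE.pk_mul, he, h3]
  exact beq_iff.1 h

theorem sq_E {g : Equiv.Perm GolayPt} (hg : g ∈ Ex) : g * g = 1 := by
  obtain ⟨x, hx, h2, h3⟩ := (mem_sg (by simp) g).1 hg
  rw [← GE.pk_inj, GE.pk_mul, h3, ← te_zero, ← Nat.xor_self x, ← mulx_xor (k := 323) (by simp) x hx x hx h2 h2]
  exact te_mul x hx x hx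

theorem fix_E {g : Equiv.Perm GolayPt} (hg : g ∈ Ex) : g none = none :=
  (oc_E (sg_le _ hg)).1 hg none (mem_bits.2 (by decide))

variable {S} (hco : S.co = false) {K : Subgroup G} (hK : S.KC K)
include hco

theorem mem_R {r : G} : r ∈ S.R ↔ r ∈ S.N ∧ S.p r ∈ Ex := by
  rw [St.R, hco]
  exact Iff.rfl

include hK

omit hco in
theorem eq_one {k : G} (h1 : k ∈ K) (h2 : k ∈ S.V) : k = 1 := mem_bot.1 (hK.inf ▸ mem_inf.2 ⟨h1, h2⟩)

theorem dec {r : G} (hr : r ∈ S.R) : ∃ k ∈ K ⊓ S.R, ∃ v ∈ S.V, r = k * v := by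
  obtain ⟨h1, h2⟩ := (mem_R hco).1 hr
  obtain ⟨k, hk, e⟩ := hK.surj _ (sg_le _ h2) (fix_E h2)
  exact ⟨k, ⟨hk, (mem_R hco).2 ⟨hK.le hk, e ▸ h2⟩⟩, _, (S.p_eq_iff (hK.le hk) h1).1 e, (mul_inv_cancel_left _ _).symm⟩

theorem sq_K {k : G} (hk : k ∈ K ⊓ S.R) : k * k = 1 := by
  obtain ⟨h1, h2⟩ := (mem_R hco).1 hk.2
  exact eq_one hK (mul_mem hk.1 hk.1) ((S.p_one _ (mul_mem h1 h1)).1 (by rw [S.p_mul _ h1 _ h1, sq_E h2]))

theorem tr {a r : G} (ha : a ∈ K) (he : GE.pk (S.p a) = te 1) (hr : r ∈ S.R) (h1 : r ∉ S.V) :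
    ∃ c ∈ K, c ∈ S.M ∧ (c * a * c⁻¹)⁻¹ * r ∈ S.V := by
  obtain ⟨h2, h3⟩ := (mem_R hco).1 hr
  obtain ⟨g, hg, g1, g2, g3⟩ := conj_E he h3 fun e => h1 ((S.p_one _ h2).1 e)
  obtain ⟨c, hc, rfl⟩ := hK.surj g hg g1
  refine ⟨c, hc, ⟨hK.le hc, (S.oc_mem hco (hK.le hc)).2 g2⟩, ?_⟩
  rw [← S.p_eq_iff (hK.le (mul_mem (mul_mem hc ha) (inv_mem hc))) h2, S.p_conj (hK.le hc) (hK.le ha), g3]

omit hco hK in
theorem mem_Q {x : G} : x ∈ S.VQ ⊔ K ⊓ S.R ↔ ∃ v ∈ S.VQ, ∃ k ∈ K ⊓ S.R, v * k = x := by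
  rw [← SetLike.mem_coe, coe_mul_of_right_le_normalizer_left _ _
    (inf_le_right.trans (S.R_le_T.trans (S.T_le_M.trans S.norm_VQ)))]
  exact ⟨fun ⟨v, hv, k, hk, e⟩ => ⟨v, hv, k, hk, e⟩, fun ⟨v, hv, k, hk, e⟩ => ⟨v, hv, k, hk, e⟩⟩

theorem norm {m x : G} (hm : m ∈ S.M) (hx : x ∈ S.VQ ⊔ K ⊓ S.R) : m * x * m⁻¹ ∈ S.VQ ⊔ K ⊓ S.R := by
  obtain ⟨v, hv, k, hk, rfl⟩ := mem_Q.1 hx
  rw [← conj_mul]
  refine mul_mem (mem_sup_left ((mem_normalizer_iff.1 (S.norm_VQ hm) v).1 hv)) ?_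
  by_cases k1 : k ∈ S.V
  · rw [eq_one hK hk.1 k1, mul_one, mul_inv_cancel]
    exact one_mem _
  obtain ⟨e, -, he⟩ := exists_te (x := 1) (by norm_num)
  have eE : e ∈ Ex := (mem_sg (by simp) e).2 ⟨1, by norm_num, rfl, he⟩
  obtain ⟨a, ha, rfl⟩ := hK.surj e (sg_le _ eE) (fix_E eE)
  have aR : a ∈ S.R := (mem_R hco).2 ⟨hK.le ha, eE⟩
  obtain ⟨c, hc, cM, h1⟩ := tr hco hK ha he hk.2 k1
  obtain rfl : c * a * c⁻¹ = k :=
    inv_mul_eq_one.1 (eq_one hK (mul_mem (inv_mem (mul_mem (mul_mem hc ha) (inv_mem hc))) hk.1) h1)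
  obtain ⟨d, hd, dM, h2⟩ := tr hco hK ha he ((mem_normalizer_iff.1 (S.norm_R hm) _).1 hk.2)
    fun e => k1 ((mem_normalizer_iff.1 hm.1 _).2 e)
  have h3 := S.qtau hco hK ha he (mul_mem (mul_mem (inv_mem dM) hm) cM) (by
    have := (mem_normalizer_iff.1 (mul_mem (hK.le ha) (S.N.inv_mem dM.1)) _).1 h2
    rwa [show a * d⁻¹ * ((d * a * d⁻¹)⁻¹ * (m * (c * a * c⁻¹) * m⁻¹)) * (a * d⁻¹)⁻¹ =
      d⁻¹ * m * c * a * (d⁻¹ * m * c)⁻¹ * a⁻¹ by group] at this)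
  exact mem_Q.2 ⟨_, (mem_normalizer_iff.1 (S.norm_VQ dM) _).1 h3, d * a * d⁻¹,
    ⟨K.mul_mem (K.mul_mem hd ha) (K.inv_mem hd), (mem_normalizer_iff.1 (S.norm_R dM) _).1 aR⟩, by group⟩

theorem sqr {x : G} (hx : x ∈ S.VQ ⊔ K ⊓ S.R) : x * x = 1 ∨ x * x = S.z := by
  obtain ⟨v, hv, k, hk, rfl⟩ := mem_Q.1 hx
  have vV : v ∈ S.V := S.par_le _ hv
  have e : v * k * (v * k) = v * (k * v * k⁻¹) := by
    rw [inv_eq_of_mul_eq_one_right (sq_K hco hK hk)]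
    group
  refine (S.cQR hk.2 v hv).imp (fun h => ?_) fun h => ?_
  · rw [e, h, S.sq vV]
  · rw [e, h, ← mul_assoc, S.comm vV S.z_mem, mul_assoc, S.sq vV, mul_one]

end QCode

open QCode

/-- notes/R24.md, section QCode -/
theorem St.qcode (hco : S.co = false) : ∃ Q, S.QD Q := by
  obtain ⟨K, hK⟩ := S.qk hco
  have le : S.VQ ⊔ K ⊓ S.R ≤ S.R := sup_le ((S.par_le _).trans S.V_le_R) inf_le_right
  have cen : ∀ a ∈ S.VQ ⊔ K ⊓ S.R, a * S.z = S.z * a := fun a ha =>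
    mem_centralizer_singleton_iff.1 (S.T_le_M (S.R_le_T (le ha))).2
  have inf : (S.VQ ⊔ K ⊓ S.R) ⊓ S.V = S.VQ := by
    refine le_antisymm (fun x hx => ?_) (le_inf le_sup_left (S.par_le _))
    obtain ⟨v, hv, k, hk, rfl⟩ := mem_Q.1 hx.1
    rwa [eq_one hK hk.1 ((mul_mem_cancel_left (S.par_le _ hv)).1 hx.2), mul_one]
  refine ⟨S.VQ ⊔ K ⊓ S.R, ⟨mem_sup_left S.z_VQ, S.z_ne, S.z_sq, cen, fun a ha b hb => ?_, fun a => sqr hco hK,
    fun g hg h => ?_⟩, le, inf, fun r hr => ?_, fun m hm => ?_, ?_⟩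
  · have zi := inv_eq_of_mul_eq_one_right S.z_sq
    have zz : ∀ y, S.z * (S.z * y) = y := fun y => by rw [← mul_assoc, S.z_sq, one_mul]
    rw [show a * b * a⁻¹ = a * b * (a * b) * ((b * b)⁻¹ * (b * (a * a)⁻¹)) by group]
    rcases sqr hco hK ha with h1 | h1 <;> rcases sqr hco hK hb with h2 | h2 <;>
      rcases sqr hco hK (mul_mem ha hb) with h3 | h3 <;> simp [h1, h2, h3, zi, zz, cen b hb]
  · have gV := S.cVQ (le hg) fun v hv => h v (mem_sup_left hv)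
    refine S.cR gV fun r hr => ?_
    obtain ⟨k, hk, v, hv, rfl⟩ := dec hco hK hr
    rw [mul_assoc, S.comm hv gV, ← mul_assoc, ← h k (mem_sup_right hk), mul_assoc]
  · obtain ⟨k, hk, v, hv, rfl⟩ := dec hco hK hr
    exact ⟨k, mem_sup_right hk, v, hv, rfl⟩
  · exact H42.mem_normalizer_of_conj_mem fun x hx => norm hco hK hm hx
  · have e : S.bar (S.VQ ⊔ K ⊓ S.R) = Ex := by
      refine le_antisymm (fun g hg => ?_) fun g hg => ?_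
      · obtain ⟨b, hb, -, rfl⟩ := S.mem_bar.1 hg
        exact ((mem_R hco).1 (le hb)).2
      · obtain ⟨k, hk, rfl⟩ := hK.surj g (sg_le _ hg) (fix_E hg)
        exact S.mem_bar.2 ⟨k, mem_sup_right ⟨hk, (mem_R hco).2 ⟨hK.le hk, hg⟩⟩, hK.le hk, rfl⟩
    rw [S.card_bar (le.trans (S.pre_le _)), inf, S.card_VQ, e, card_sg (by simp), hco,
      show pc 323 = 4 by decide +kernel]
    rfl

end Cfsg.Agent.R24
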